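import Groth.Agent.Var76.Mumford
import Groth.Agent.SSExt96.Basic
import Groth.Agent.RB70.PnModuleTwist
import Groth.Prelude.Def_FrameBundle
import Mathlib.FieldTheory.IsAlgClosed.AlgebraicClosure

/-! Mumford's regularity bound over arbitrary fields, uniform in the field. -/

set_option autoImplicit false
set_option backward.isDefEq.respectTransparency.types false
set_option maxSynthPendingDepth 6
universe u

open CategoryTheory CategoryTheory.Limits AlgebraicGeometry TensorProduct

noncomputable section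

namespace Groth.Agent.Mum75

open Var76.Reg

/-- The bound. -/
def bound (n r : ℕ) (P : Polynomial ℚ) : ℤ :=
  mumBd n r (n + 1) (fun t => ((r * (t.toNat + n).choose n : ℕ) : ℤ) - ⌊P.eval (t : ℚ)⌋) 0

theorem reg_of_infinite {n : ℕ} {k : Type u} [Field k] [Infinite k] (r : ℕ) (P : Polynomial ℚ)
    {Q : (CohB1.ProjSpace n k).Modules} (φ : FlatMod.freeMod (CohB1.ProjSpace n k) r ⟶ Q) [Epi φ]
    (hQ : Coh.IsCoh Q) (hP : ∀ t : ℕ, ((chi Q (t : ℤ) : ℤ) : ℚ) = P.eval (t : ℚ)) :
    Reg n k (kernel φ) (bound n r P) := by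
  refine mumford r φ hQ _ 0 fun t _ => ?_
  rw [chi_kernel r φ hQ t]
  have : chi Q (t : ℤ) = ⌊P.eval (t : ℚ)⌋ := by rw [← hP t, Int.floor_intCast]
  rw [this]
  simp

theorem isMRegular_kernel {n : ℕ} (k : Type u) [Field k] (r : ℕ) (P : Polynomial ℚ)
    {F : (CohB1.ProjSpace n k).Modules} (φ : FlatMod.freeMod (CohB1.ProjSpace n k) r ⟶ F) [Epi φ]
    (hF : Coh.IsCoh F) (hP : ∀ t : ℕ, ((chi F (t : ℤ) : ℤ) : ℚ) = P.eval (t : ℚ)) :
    Curv2.IsMRegular k n (kernel φ) (bound n r P) := by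
  let K := AlgebraicClosure k
  let π := Csa25.linMap (n := n) (algebraMap k K) 1 isUnit_one
  have sq : IsPullback π ((CohB1.ProjSpace n K) ↘ Spec (CommRingCat.of K))
      ((CohB1.ProjSpace n k) ↘ Spec (CommRingCat.of k)) (Spec.map (CommRingCat.ofHom (algebraMap k K))) :=
    Csa25.isPullback_linMap_one
  have : IsProper ((CohB1.ProjSpace n k) ↘ Spec (CommRingCat.of k)) := Serre71.isProper_projSpace n k
  have : Flat π := SSExt96.flat_π sq
  have hFq := hF.1
  have hker : Coh.IsCoh (kernel φ) := QC70.isCoh_kernel φ (isCoh_free r) hF.1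
  have := hker.1
  let ψ : FlatMod.freeMod (CohB1.ProjSpace n K) r ⟶ (Scheme.Modules.pullback π).obj F :=
    (FrB.pullbackFreeIso π r).inv ≫ (Scheme.Modules.pullback π).map φ
  have hcF : Coh.IsCoh ((Scheme.Modules.pullback π).obj F) := SSExt96.isCoh_pull hF
  have twP : ∀ (G : (CohB1.ProjSpace n k).Modules) (d : ℤ), Nonempty ((Scheme.Modules.pullback π).obj (tw n k G d) ≅
      tw n K ((Scheme.Modules.pullback π).obj G) d) := by
    intro G d
    obtain ⟨t⟩ := RB70.nonempty_pullback_linMap_twist (A := k) (B := K) n d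
    exact ⟨Desc59.AmpleDesc.pullTensIso π G _ ≪≫ EGA73.tensIso (Iso.refl _) t⟩
  have htw : ∀ {G : (CohB1.ProjSpace n k).Modules}, Coh.IsCoh G → ∀ d : ℤ, Coh.IsCoh (tw n k G d) :=
    fun hG d => isCoh_tw hG d
  have hP' : ∀ t : ℕ, ((chi ((Scheme.Modules.pullback π).obj F) (t : ℤ) : ℤ) : ℚ) = P.eval (t : ℚ) := by
    intro t
    obtain ⟨e⟩ := twP F t
    rw [← hP t, chi, chi, ← Crv77.euler_congr (k := K) e, SSExt96.euler_pull sq (htw hF _)]
  have hreg : Reg n K (kernel ψ) (bound n r P) := reg_of_infinite r P ψ hcF hP'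
  -- the kernel commutes with the flat base change
  have hS : (ShortComplex.mk (kernel.ι φ) φ (kernel.condition φ)).ShortExact :=
    { exact := ShortComplex.exact_of_f_is_kernel _ (kernelIsKernel φ) }
  let S' := (ShortComplex.mk (kernel.ι φ) φ (kernel.condition φ)).map (Scheme.Modules.pullback π)
  have hm : Mono S'.f := SSExt96.mono_pull sq (kernel.ι φ) hker (isCoh_free r)
  have hex : S'.Exact := ShortComplex.exact_of_g_is_cokernel S'
    (CokernelCofork.mapIsColimit _ hS.gIsCokernel (Scheme.Modules.pullback π))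
  have : Mono S'.f := hm
  let eK : (Scheme.Modules.pullback π).obj (kernel φ) ≅ kernel ψ :=
    hex.fIsKernel.conePointUniqueUpToIso (kernelIsKernel ((Scheme.Modules.pullback π).map φ)) ≪≫
      (kernelIsIsoComp (FrB.pullbackFreeIso π r).inv ((Scheme.Modules.pullback π).map φ)).symm
  rw [isMRegular_iff hker.1]
  intro i hi
  have h := hreg i hi
  let G := tw n k (kernel φ) (bound n r P - i)
  have hG : Coh.IsCoh G := htw hker _
  have := hG.1
  obtain ⟨ι, hι, U, L, ψ', N, hU, hU', -, -, hφ⟩ := Mum71.exists_model k G hG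
    (FBase64.AssTensor.isFlatOver_field ((CohB1.ProjSpace n k) ↘ Spec (CommRingCat.of k)) G)
  obtain ⟨e⟩ := RB70.nonempty_hh_flat_bc (B := K) (X' := CohB1.ProjSpace n K) (g := π) sq hU hU' hφ i
  obtain ⟨e2⟩ := twP (kernel φ) (bound n r P - i)
  let e3 := Crv77.hEquiv K (e2 ≪≫ EGA73.tensIso eK (Iso.refl _)) i
  have h0 : Module.finrank K (K ⊗[k] Coh.HH (CohB1.ProjSpace n k) G i) = 0 := by
    rw [e.finrank_eq, e3.finrank_eq]
    exact Module.finrank_zero_of_subsingleton
  rw [Module.finrank_baseChange] at h0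
  have : Module.Finite k (Coh.HH (CohB1.ProjSpace n k) G i) := finite_hh_tw _ hker _ i
  exact Module.finrank_zero_iff.1 h0

end Groth.Agent.Mum75

end
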